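import Cfsg.Agent.Lib.RankOne.Fixed
import Cfsg.Agent.Lib.Base.Nilpotent
import Cfsg.Agent.Lib.Base.ThompsonFPF
import Cfsg.Agent.Lib.Base.Cores
import Cfsg.Agent.Lib.Coprime.Action2

/-!
Consequences of two commuting involutions in the rank-one set-up.
-/

set_option autoImplicit false
set_option linter.style.haveILetI false

namespace CfsgLib.RankOne

open MulAction

variable {G Ω : Type*} [Group G] [MulAction G Ω] {a : Ω} {t : G} {Q : Subgroup G}
variable (hS : Cfsg.IsRankOneSetup G Ω a t Q)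
include hS

theorem exists_pair [Finite G]
    (h2 : ∃ x y : G, x ≠ 1 ∧ y ≠ 1 ∧ x ≠ y ∧ x * x = 1 ∧ y * y = 1 ∧ x * y = y * x) :
    ∃ s ∈ Cfsg.involutionsIn (stabilizer G a : Set G),
      ∃ s' ∈ Cfsg.involutionsIn (stabilizer G a : Set G), s ≠ s' := by
  obtain ⟨x, y, hx1, hy1, hxy, hx2, hy2, hc⟩ := h2
  obtain ⟨c, hcx⟩ := exists_fixed hS (s := x) ⟨hx1, hx2⟩
  have hcy : y • c = c :=
    fixed_eq hS (s := x) ⟨hx1, hx2⟩ (fixed_smul_of_commute hc.symm hcx) hcx
  obtain ⟨g, hg⟩ := exists_smul_a hS c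
  have hg' : g⁻¹ • c = a := by rw [← hg, inv_smul_smul]
  have f : ∀ z : G, z • c = c → (g⁻¹ * z * g⁻¹⁻¹) • a = a := fun z hz => by
    have := conj_smul_eq_of_fixed (g := g⁻¹) hz
    rwa [hg'] at this
  exact ⟨_, (mem_involutionsIn hS).2 ⟨conj_mem_invols g⁻¹ ⟨hx1, hx2⟩, f x hcx⟩, _,
    (mem_involutionsIn hS).2 ⟨conj_mem_invols g⁻¹ ⟨hy1, hy2⟩, f y hcy⟩,
    fun e => hxy (mul_left_cancel (mul_right_cancel e))⟩

theorem exists_inverted_ne_one [Finite G]
    (h2 : ∃ x y : G, x ≠ 1 ∧ y ≠ 1 ∧ x ≠ y ∧ x * x = 1 ∧ y * y = 1 ∧ x * y = y * x) :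
    ∃ k ∈ Cfsg.invertedBy (Dsub a t) t, k ≠ 1 := by
  obtain ⟨s, hs, s', hs', hne⟩ := exists_pair hS h2
  obtain ⟨i, hi, he⟩ := exists_conj_inverted hS hs hs'
  exact ⟨i, hi, fun e => hne (by rw [← he, e, inv_one, one_mul, mul_one])⟩

/-- S1129. -/
theorem isNilpotent_Q [Finite G]
    (h2 : ∃ x y : G, x ≠ 1 ∧ y ≠ 1 ∧ x ≠ y ∧ x * x = 1 ∧ y * y = 1 ∧ x * y = y * x) :
    Group.IsNilpotent Q := by
  obtain ⟨k, hk, hk1⟩ := exists_inverted_ne_one hS h2
  refine CfsgLib.Base.IsFPF.isNilpotent (A := Subgroup.zpowers k) (V := Q) ⟨?_, ?_⟩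
    (by rwa [ne_eq, Subgroup.zpowers_eq_bot])
  · rw [Subgroup.zpowers_le, Subgroup.mem_normalizer_iff]
    exact fun x => ⟨fun hx => hS.conj_mem k hk.1.1 x hx, fun hx => by
      have := hS.conj_mem k⁻¹ ((stabilizer G a).inv_mem hk.1.1) _ hx
      rwa [show k⁻¹ * (k * x * k⁻¹) * k⁻¹⁻¹ = x by group] at this⟩
  · intro x hx hx1
    obtain ⟨n, rfl⟩ := Subgroup.mem_zpowers_iff.1 hx
    refine inf_centralizer_eq_bot hS ⟨(Dsub a t).zpow_mem hk.1 n, ?_⟩ hx1
    rw [← conj_zpow, hk.2, inv_zpow]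

/-- S1130, first part. -/
theorem commute_Q [Finite G]
    (h2 : ∃ x y : G, x ≠ 1 ∧ y ≠ 1 ∧ x ≠ y ∧ x * x = 1 ∧ y * y = 1 ∧ x * y = y * x)
    {s : G} (hs : s ∈ Cfsg.involutionsIn (stabilizer G a : Set G)) {x : G} (hx : x ∈ Q) :
    s * x = x * s := by
  haveI := Fact.mk Nat.prime_two
  haveI := isNilpotent_Q hS h2
  let P : Sylow 2 Q := default
  haveI : (P : Subgroup Q).Normal :=
    Sylow.normal_of_normalizerCondition Group.normalizerCondition_of_isNilpotent P
  have hP : (P : Subgroup Q) ≠ ⊥ :=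
    P.ne_bot_of_dvd_card (even_iff_two_dvd.1 hS.even_card)
  have hne := CfsgLib.Base.inf_center_ne_bot_of_isNilpotent hP
  have hpg : IsPGroup 2 ↥((P : Subgroup Q) ⊓ Subgroup.center Q) := P.2.to_le inf_le_left
  obtain ⟨n, hn⟩ := IsPGroup.iff_card.1 hpg
  have hn0 : n ≠ 0 := fun e => hne (Subgroup.eq_bot_of_card_eq _ (by rw [hn, e, pow_zero]))
  obtain ⟨z, hz⟩ := exists_prime_orderOf_dvd_card' (G := ↥((P : Subgroup Q) ⊓ Subgroup.center Q)) 2
    (by rw [hn]; exact dvd_pow_self 2 hn0)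
  obtain ⟨⟨z, hzP⟩, hzc⟩ := z
  have hzi : z ∈ invols G := by
    simp only [Subgroup.orderOf_mk] at hz
    refine ⟨fun e => ?_, by rw [← pow_two, ← hz, pow_orderOf_eq_one]⟩
    rw [e, orderOf_one] at hz; omega
  have hzJ := (mem_involutionsIn hS).2 ⟨hzi, hS.le hzP⟩
  have hcen : ∀ y ∈ Q, y * z = z * y := fun y hy =>
    congrArg Subtype.val (Subgroup.mem_center_iff.1 hzc.2 ⟨y, hy⟩)
  obtain ⟨i, hi, he⟩ := exists_conj_inverted hS hzJ hs
  have h := hcen _ (hS.conj_mem i hi.1.1 x hx)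
  rw [← he]
  calc i⁻¹ * z * i * x = i⁻¹ * (z * (i * x * i⁻¹)) * i := by group
    _ = i⁻¹ * ((i * x * i⁻¹) * z) * i := by rw [h]
    _ = _ := by group

/-- Involutions with the same fixed point commute. -/
theorem commute_of_fixed [Finite G]
    (h2 : ∃ x y : G, x ≠ 1 ∧ y ≠ 1 ∧ x ≠ y ∧ x * x = 1 ∧ y * y = 1 ∧ x * y = y * x)
    {u v : G} (hu : u ∈ invols G) (hv : v ∈ invols G) {c : Ω} (huc : u • c = c)
    (hvc : v • c = c) : u * v = v * u := by
  obtain ⟨t', Q', hS'⟩ := exists_setup hS c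
  exact commute_Q hS' h2 ((mem_involutionsIn hS').2 ⟨hu, huc⟩) (mem_Q hS' hv.2 hvc)

/-- S1120. -/
theorem pPrimeCore_eq [Finite G]
    (h2 : ∃ x y : G, x ≠ 1 ∧ y ≠ 1 ∧ x ≠ y ∧ x * x = 1 ∧ y * y = 1 ∧ x * y = y * x) :
    Cfsg.pPrimeCore 2 G = (stabilizer G a).normalCore := by
  apply le_antisymm
  · obtain ⟨x, y, hx1, hy1, hxy, hx2, hy2, hc⟩ := h2
    set O := Cfsg.pPrimeCore 2 G
    obtain ⟨c, hcx⟩ := exists_fixed hS (s := x) ⟨hx1, hx2⟩
    have hcy : y • c = c :=
      fixed_eq hS (s := x) ⟨hx1, hx2⟩ (fixed_smul_of_commute hc.symm hcx) hcx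
    let A : Subgroup G :=
      { carrier := {g | g = 1 ∨ g = x ∨ g = y ∨ g = x * y}
        one_mem' := Or.inl rfl
        mul_mem' := by
          intro p q hp hq
          rcases hp with hp | hp | hp | hp <;> rcases hq with hq | hq | hq | hq <;> rw [hp, hq] <;>
            simp [mul_assoc, hc.symm, hx2, hy2, ← mul_assoc x x, ← mul_assoc y x, ← mul_assoc y y]
        inv_mem' := by
          intro p hp
          rcases hp with hp | hp | hp | hp <;> rw [hp] <;>
            simp [inv_of_mul_self hx2, inv_of_mul_self hy2, hc] }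
    have hsq : ∀ g ∈ A, g * g = 1 := by
      intro g hg
      rcases hg with hg | hg | hg | hg <;> rw [hg]
      · exact one_mul 1
      · exact hx2
      · exact hy2
      · rw [mul_assoc, ← mul_assoc y x, ← hc, mul_assoc x y, hy2, mul_one, hx2]
    haveI : IsMulCommutative A := ⟨⟨fun p q => Subtype.ext (by
      have := hsq _ (A.mul_mem p.2 q.2)
      calc (p : G) * q = ((p : G) * (q : G))⁻¹ := (inv_of_mul_self this).symm
        _ = q * p := by
          rw [mul_inv_rev, inv_of_mul_self (hsq _ q.2), inv_of_mul_self (hsq _ p.2)]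
      )⟩⟩
    have hA : IsPGroup 2 A := fun g => ⟨1, Subtype.ext (by
      rw [pow_one, SubmonoidClass.coe_pow, pow_two]; exact hsq _ g.2)⟩
    haveI := Fact.mk Nat.prime_two
    obtain ⟨n, hn⟩ := IsPGroup.iff_card.1 hA
    have hO : (Nat.card O).Coprime 2 := CfsgLib.Base.pPrimeCore_coprime 2 G
    have hcop : (Nat.card A).Coprime (Nat.card O) := by
      rw [hn]; exact (hO.symm).pow_left n
    have hfix : ∀ z ∈ A, z ≠ 1 → O ⊓ Subgroup.centralizer {z} ≤ stabilizer G c := by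
      intro z hz hz1 g hg
      have hzc : z • c = c := by
        rcases hz with hz | hz | hz | hz <;> rw [hz]
        exacts [one_smul G c, hcx, hcy, by rw [mul_smul, hcy, hcx]]
      exact fixed_eq hS (s := z) ⟨hz1, hsq z hz⟩
        (fixed_smul_of_commute (Subgroup.mem_centralizer_singleton_iff.1 hg.2) hzc) hzc
    have hxA : x ∈ A := Or.inr (Or.inl rfl)
    have hyA : y ∈ A := Or.inr (Or.inr (Or.inl rfl))
    have hxy1 : x * y ≠ 1 := fun e => hxy (by
      rw [← inv_of_mul_self hy2]; exact eq_inv_of_mul_eq_one_left e)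
    have hle : O ≤ stabilizer G c := by
      refine CfsgLib.Coprime.le_of_centralizer_le Nat.prime_two
        (Subgroup.le_normalizer_of_normal) hcop hO hxA hyA ?_ ?_ (hfix y hyA hy1) ?_
      · rw [pow_two, hx2]; exact Subgroup.one_mem _
      · rw [pow_two, hy2]; exact Subgroup.one_mem _
      · intro i hi
        interval_cases i
        · rw [pow_zero, mul_one]; exact hfix x hxA hx1
        · rw [pow_one]; exact hfix _ (A.mul_mem hxA hyA) hxy1
    obtain ⟨g, hg⟩ := exists_smul_a hS c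
    intro o ho w
    have h1 : (g * (w * o * w⁻¹) * g⁻¹) • c = c :=
      hle ((Cfsg.pPrimeCore_normal 2 G).conj_mem _
        ((Cfsg.pPrimeCore_normal 2 G).conj_mem o ho w) g)
    rw [← hg, mul_smul, mul_smul, inv_smul_smul] at h1
    exact smul_left_cancel g h1
  · refine CfsgLib.Base.le_pPrimeCore ?_
    have hle : (stabilizer G a).normalCore ≤ Dsub a t := by
      refine le_inf (Subgroup.normalCore_le _) fun g hg => ?_
      have h := hg t
      rw [mem_stabilizer_iff, mul_smul, mul_smul, t_inv hS] at h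
      rw [mem_stabilizer_iff]
      calc g • t • a = t • (t • g • t • a) := by rw [← mul_smul t t, hS.mul_self, one_smul]
        _ = t • a := by rw [h]
    exact (Nat.coprime_two_right.2 hS.odd_card).coprime_dvd_left (Subgroup.card_dvd_of_le hle)

/-- S1127, second part. -/
theorem centralizer_inverted_eq [Finite G] :
    Dsub a t ⊓ Subgroup.centralizer {t} ⊓ Subgroup.centralizer (Cfsg.invertedBy (Dsub a t) t) =
      Dsub a t ⊓ Subgroup.centralizer (Cfsg.involutionsIn (stabilizer G a : Set G)) := by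
  obtain ⟨s₀, hs₀, hr⟩ := exists_base hS
  have hn := fun x hx => conj_t_mem hS (x := x) hx
  apply le_antisymm
  · rintro d ⟨⟨hd, hdt⟩, hdK⟩
    refine ⟨hd, Subgroup.mem_centralizer_iff.2 fun s hs => ?_⟩
    obtain ⟨i, hi, rfl⟩ := exists_conj_inverted hS hs₀ hs
    have c1 : Commute d s₀ :=
      (commute_t_iff hS hs₀ hr hd).1 (Subgroup.mem_centralizer_singleton_iff.1 hdt)
    have c2 : Commute d i := (Subgroup.mem_centralizer_iff.1 hdK i hi).symm
    exact (((c2.inv_right).mul_right c1).mul_right c2).symm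
  · rintro d ⟨hd, hdJ⟩
    have hdt : Commute d t := (commute_t_iff hS hs₀ hr hd).2
      (Subgroup.mem_centralizer_iff.1 hdJ s₀ hs₀).symm
    refine ⟨⟨hd, Subgroup.mem_centralizer_singleton_iff.2 hdt⟩,
      Subgroup.mem_centralizer_iff.2 fun k hk => ?_⟩
    have hmem := conj_involutionsIn hS hs₀ ((stabilizer G a).inv_mem hk.1.1)
    rw [inv_inv] at hmem
    have c1 : Commute d (k⁻¹ * s₀ * k) := (Subgroup.mem_centralizer_iff.1 hdJ _ hmem).symm
    have c2 : Commute (k * d * k⁻¹) s₀ := by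
      have := Commute.conj_iff k |>.2 c1
      rwa [show k * (k⁻¹ * s₀ * k) * k⁻¹ = s₀ by group] at this
    have c3 : Commute (k * d * k⁻¹) t :=
      (commute_t_iff hS hs₀ hr (conj_mem_Dsub hk.1 hd)).2 c2
    have e3 : t * (k * d * k⁻¹) * t⁻¹ = k * d * k⁻¹ := by
      rw [← c3.eq, mul_inv_cancel_right]
    have e4 : k⁻¹ * d * k = k * d * k⁻¹ := by
      rw [← e3, show t * (k * d * k⁻¹) * t⁻¹ = (t * k * t⁻¹) * (t * d * t⁻¹) * (t * k * t⁻¹)⁻¹ by
        group, hk.2, inv_inv, show t * d * t⁻¹ = d by rw [← hdt.eq, mul_inv_cancel_right]]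
    have c4 : Commute d (k * k) := by
      calc d * (k * k) = k * (k⁻¹ * d * k) * k := by group
        _ = k * k * d := by rw [e4]; group
    exact (commute_of_commute_sq hS.odd_card hk.1 c4).symm

/-- S1134. -/
theorem exists_fusion [Finite G] {X : Set G}
    (hX : X ⊆ ((Dsub a t ⊓ Subgroup.centralizer {t} : Subgroup G) : Set G)) (g : G)
    (hY : (fun x => g * x * g⁻¹) '' X ⊆
      ((Dsub a t ⊓ Subgroup.centralizer {t} : Subgroup G) : Set G)) :
    ∃ v ∈ Dsub a t ⊓ Subgroup.centralizer {t},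
      (fun x => v * x * v⁻¹) '' X = (fun x => g * x * g⁻¹) '' X := by
  have hne := ta_ne hS
  obtain ⟨c, hc⟩ := exists_fixed hS (t_mem_invols hS)
  have hca : a ≠ c := fun e => hne (by rw [e, hc])
  have hct : t • a ≠ c := fun e => hca (by rw [← t_smul_ta hS, e, hc])
  have key : ∀ Z : Set G, Z ⊆ ((Dsub a t ⊓ Subgroup.centralizer {t} : Subgroup G) : Set G) →
      a ∈ Fix Ω Z ∧ t • a ∈ Fix Ω Z ∧ c ∈ Fix Ω Z := fun Z hZ =>
    ⟨fun x hx => (hZ hx).1.1, fun x hx => (hZ hx).1.2, fun x hx =>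
      fixed_eq hS (t_mem_invols hS)
        (fixed_smul_of_commute (Subgroup.mem_centralizer_singleton_iff.1 (hZ hx).2) hc) hc⟩
  obtain ⟨hYa, hYt, hYc⟩ := key _ hY
  obtain ⟨hXa, hXt, -⟩ := key _ hX
  set Y := (fun x => g * x * g⁻¹) '' X with hYdef
  have hmap : ∀ p ∈ Fix Ω X, g • p ∈ Fix Ω Y := by
    rintro p hp _ ⟨x, hx, rfl⟩
    exact conj_smul_eq_of_fixed (hp x hx)
  obtain ⟨h, hh, e1, e2⟩ := exists_centralizing_two hS
    ⟨a, hYa, t • a, hYt, c, hYc, hne.symm, hca, hct⟩ (hmap a hXa) (hmap _ hXt) hYa hYt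
    (fun e => hne (smul_left_cancel g e).symm) hne.symm
  have hd : h * g ∈ Dsub a t :=
    ⟨show (h * g) • a = a by rw [mul_smul, e1], show (h * g) • t • a = t • a by rw [mul_smul, e2]⟩
  have hn := fun x hx => conj_t_mem hS (x := x) hx
  obtain ⟨⟨v, i⟩, ⟨hv, hi, hvi⟩, -⟩ := existsUnique_decomp hS.mul_self hS.odd_card hn hd
  refine ⟨v, hv, Set.image_congr fun x hx => ?_⟩
  simp only at hv hi hvi ⊢
  have hy : g * x * g⁻¹ ∈ Y := ⟨x, hx, rfl⟩
  have e : h * g * x * (h * g)⁻¹ = g * x * g⁻¹ := by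
    calc h * g * x * (h * g)⁻¹ = h * (g * x * g⁻¹) * h⁻¹ := by group
      _ = (g * x * g⁻¹) * h * h⁻¹ := by rw [← Subgroup.mem_centralizer_iff.1 hh _ hy]
      _ = _ := mul_inv_cancel_right _ _
  have hV := hX hx
  have hW : i * x * i⁻¹ ∈ Dsub a t ⊓ Subgroup.centralizer {t} := by
    rw [show i * x * i⁻¹ = v⁻¹ * (h * g * x * (h * g)⁻¹) * v by rw [hvi]; group, e]
    exact Subgroup.mul_mem _ (Subgroup.mul_mem _ (Subgroup.inv_mem _ hv) (hY hy)) hv
  have fx : ∀ z ∈ Dsub a t ⊓ Subgroup.centralizer {t}, t * z * t⁻¹ = z := fun z hz => by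
    rw [← Subgroup.mem_centralizer_singleton_iff.1 hz.2, mul_inv_cancel_right]
  have e5 : i⁻¹ * x * i = i * x * i⁻¹ := by
    have h5 := fx _ hW
    rwa [show t * (i * x * i⁻¹) * t⁻¹ = (t * i * t⁻¹) * (t * x * t⁻¹) * (t * i * t⁻¹)⁻¹ by group,
      hi.2, fx x hV, inv_inv] at h5
  have c4 : Commute x (i * i) := by
    calc x * (i * i) = i * (i⁻¹ * x * i) * i := by group
      _ = i * i * x := by rw [e5]; group
  have c5 := commute_of_commute_sq hS.odd_card hi.1 c4
  rw [← e, hvi, show v * i * x * (v * i)⁻¹ = v * (i * x * i⁻¹) * v⁻¹ by group, ← c5.eq,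
    mul_inv_cancel_right]

theorem mul_t_eq_sqrt {k i : G} (hi : i ∈ Cfsg.invertedBy (Dsub a t) t) (h : i * i = k) :
    k * t = i * t * i⁻¹ := by
  rw [← h, mul_assoc, mul_assoc]
  congr 1
  calc i * t = (t * i * t⁻¹)⁻¹ * t := by rw [hi.2, inv_inv]
    _ = t * i⁻¹ := by group

/-- S1135. -/
theorem product_of_involutions [Finite G]
    (h2 : ∃ x y : G, x ≠ 1 ∧ y ≠ 1 ∧ x ≠ y ∧ x * x = 1 ∧ y * y = 1 ∧ x * y = y * x)
    {u v : G} (hu : u ∈ invols G) (hv : v ∈ invols G) (hx : u * v * (u * v) ≠ 1) :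
    (∃ g : G, ∃ u' ∈ Cfsg.involutionsIn (stabilizer G a : Set G), g * (u * v) * g⁻¹ = u' * t) ∧
      Odd (Nat.card ↥(Subgroup.centralizer {u * v})) := by
  have hne := ta_ne hS
  have hn := fun x hx => conj_t_mem hS (x := x) hx
  obtain ⟨cu, hcu⟩ := exists_fixed hS hu
  have hdiff : v • cu ≠ cu := fun e => hx (by
    have := commute_of_fixed hS h2 hu hv hcu e
    calc u * v * (u * v) = u * v * (v * u) := by rw [← this]
      _ = u * (v * v) * u := by group
      _ = 1 := by rw [hv.2, mul_one, hu.2])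
  constructor
  · obtain ⟨g, hg⟩ := exists_smul_a hS cu
    have hu1 : (g⁻¹ * u * g⁻¹⁻¹) • a = a := by
      have := conj_smul_eq_of_fixed (g := g⁻¹) hcu
      rwa [← hg, inv_smul_smul] at this
    have hv1 : (g⁻¹ * v * g⁻¹⁻¹) • a ≠ a := fun e => hdiff (by
      rw [mul_smul, mul_smul, inv_inv, hg, inv_smul_eq_iff, hg] at e
      exact e)
    obtain ⟨y, hy, k, hk, hvf⟩ := exists_inverted_form hS (conj_mem_invols g⁻¹ hv) hv1
    obtain ⟨i, hi, hii⟩ := exists_inverted_sqrt hS.mul_self hS.odd_card hn hk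
    have hkt := mul_t_eq_sqrt hS hi hii
    have hu' := conj_involutionsIn hS
      (conj_involutionsIn hS ((mem_involutionsIn hS).2 ⟨conj_mem_invols g⁻¹ hu, hu1⟩) (hS.le hy))
      ((stabilizer G a).inv_mem hi.1.1)
    refine ⟨i⁻¹ * y * g⁻¹, _, hu', ?_⟩
    have hv2 : g⁻¹ * v * g = y⁻¹ * (i * t * i⁻¹) * y := by
      rw [inv_inv] at hvf
      rw [hvf, ← hkt]; group
    calc i⁻¹ * y * g⁻¹ * (u * v) * (i⁻¹ * y * g⁻¹)⁻¹
        = i⁻¹ * y * (g⁻¹ * u * g) * (g⁻¹ * v * g) * y⁻¹ * i := by group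
      _ = _ := by rw [hv2]; group
  · rw [← Nat.not_even_iff_odd]
    intro hev
    haveI := Fact.mk Nat.prime_two
    obtain ⟨⟨w, hwC⟩, hw⟩ := exists_prime_orderOf_dvd_card' 2 (even_iff_two_dvd.1 hev)
    rw [Subgroup.orderOf_mk] at hw
    have hwi : w ∈ invols G := by
      refine ⟨fun e => ?_, by rw [← pow_two, ← hw, pow_orderOf_eq_one]⟩
      rw [e, orderOf_one] at hw; omega
    have hwx : w * (u * v) = u * v * w := Subgroup.mem_centralizer_singleton_iff.1 hwC
    obtain ⟨c, hc⟩ := exists_fixed hS hwi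
    have hxc : (u * v) • c = c := fixed_eq hS hwi (fixed_smul_of_commute hwx.symm hc) hc
    have huvc : u • v • c = c := by rwa [← mul_smul]
    have huc' : u • c = v • c := by
      calc u • c = u • u • v • c := by rw [huvc]
        _ = v • c := by rw [← mul_smul, hu.2, one_smul]
    have hcne : v • c ≠ c := fun e => by
      have h' : u • c = c := by rw [huc', e]
      have := fixed_eq hS hu h' hcu
      exact hdiff (this ▸ e)
    have hxc' : (u * v) • v • c = v • c := by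
      rw [mul_smul, ← mul_smul v v, hv.2, one_smul, huc']
    obtain ⟨g, hga, hgt⟩ := exists_two hS hcne.symm hne.symm
    -- move `c`, `v • c` to `a`, `t • a`
    have hxD : g * (u * v) * g⁻¹ ∈ Dsub a t := by
      constructor
      · have := conj_smul_eq_of_fixed (g := g) hxc
        rwa [hga] at this
      · have := conj_smul_eq_of_fixed (g := g) hxc'
        rwa [hgt] at this
    have hwa : (g * w * g⁻¹) • a = a := by
      have := conj_smul_eq_of_fixed (g := g) hc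
      rwa [hga] at this
    have hgi : g⁻¹ • a = c := by rw [← hga, inv_smul_smul]
    have hgi' : g⁻¹ • t • a = v • c := by rw [← hgt, inv_smul_smul]
    have hv' := conj_mem_invols g hv
    have hva : (g * v * g⁻¹) • a = t • a := by rw [mul_smul, mul_smul, hgi, hgt]
    have hvt : (g * v * g⁻¹) • t • a = a := by
      rw [mul_smul, mul_smul, hgi', ← mul_smul v v, hv.2, one_smul, hga]
    have hd : g * v * g⁻¹ * t ∈ Dsub a t :=
      ⟨show (g * v * g⁻¹ * t) • a = a by rw [mul_smul, hvt],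
        show (g * v * g⁻¹ * t) • t • a = t • a by rw [mul_smul, t_smul_ta hS, hva]⟩
    set d := g * v * g⁻¹ * t with hddef
    have hdt : d * t = g * v * g⁻¹ := by rw [hddef, mul_assoc, hS.mul_self, mul_one]
    have hdK : d ∈ Cfsg.invertedBy (Dsub a t) t := by
      refine ⟨hd, eq_inv_of_mul_eq_one_right ?_⟩
      rw [show d * (t * d * t⁻¹) = d * t * (d * t) * (t * t)⁻¹ by group, hdt, hv'.2, hS.mul_self,
        inv_one, mul_one]
    obtain ⟨i, hi, hii⟩ := exists_inverted_sqrt hS.mul_self hS.odd_card hn hdK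
    have hit := mul_t_eq_sqrt hS hi hii
    rw [hdt] at hit
    set z := i⁻¹ * (g * (u * v) * g⁻¹) * i with hzdef
    have htz : t = i⁻¹ * (g * v * g⁻¹) * i := by rw [hit]; group
    have hinv : v * (u * v) * v⁻¹ = (u * v)⁻¹ := by
      rw [mul_inv_rev, inv_of_mul_self hv.2, inv_of_mul_self hu.2, mul_assoc, mul_assoc, hv.2,
        mul_one]
    have hzK : z ∈ Cfsg.invertedBy (Dsub a t) t := by
      refine ⟨(Dsub a t).mul_mem ((Dsub a t).mul_mem ((Dsub a t).inv_mem hi.1) hxD) hi.1, ?_⟩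
      calc t * z * t⁻¹ = i⁻¹ * (g * (v * (u * v) * v⁻¹) * g⁻¹) * i := by
            rw [hzdef, htz]; group
        _ = z⁻¹ := by rw [hinv, hzdef]; group
    have hz1 : z ≠ 1 := fun e => hx (by
      have : u * v = 1 := by
        calc u * v = g⁻¹ * i * z * i⁻¹ * g := by rw [hzdef]; group
          _ = 1 := by rw [e]; group
      rw [this, mul_one])
    have hw2 := conj_involutionsIn hS ((mem_involutionsIn hS).2 ⟨conj_mem_invols g hwi, hwa⟩)
      ((stabilizer G a).inv_mem hi.1.1)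
    obtain ⟨hw2i, hw2a⟩ := (mem_involutionsIn hS).1 hw2
    have hmem : i⁻¹ * (g * w * g⁻¹) * i⁻¹⁻¹ ∈ Q ⊓ Subgroup.centralizer {z} := by
      refine ⟨mem_Q hS hw2i.2 hw2a, Subgroup.mem_centralizer_singleton_iff.2 ?_⟩
      calc i⁻¹ * (g * w * g⁻¹) * i⁻¹⁻¹ * z = i⁻¹ * (g * (w * (u * v)) * g⁻¹) * i := by
            rw [hzdef]; group
        _ = _ := by rw [hwx, hzdef]; group
    rw [inf_centralizer_eq_bot hS hzK hz1, Subgroup.mem_bot] at hmem
    exact hw2i.1 hmem

end CfsgLib.RankOne
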