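import Cfsg.Agent.Lib.RankOne.OddGroup

/-!
Elementary facts about the standing rank-one set-up.
-/

set_option autoImplicit false
set_option linter.style.haveILetI false

namespace CfsgLib.RankOne

open MulAction

section Defs

variable {G Ω : Type*} [Group G] [MulAction G Ω]

/-- The two-point stabiliser of the set-up. -/
abbrev Dsub (a : Ω) (t : G) : Subgroup G := stabilizer G a ⊓ stabilizer G (t • a)

/-- The set of involutions of the group. -/
def invols (G : Type*) [Group G] : Set G := {x | x ≠ 1 ∧ x * x = 1}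

theorem inv_of_mul_self {x : G} (h : x * x = 1) : x⁻¹ = x := inv_eq_of_mul_eq_one_left h

theorem conj_mem_invols {x : G} (g : G) (h : x ∈ invols G) : g * x * g⁻¹ ∈ invols G := by
  refine ⟨fun e => h.1 ?_, ?_⟩
  · rwa [mul_inv_eq_one, mul_eq_left] at e
  · rw [show g * x * g⁻¹ * (g * x * g⁻¹) = g * (x * x) * g⁻¹ by group, h.2, mul_one, mul_inv_cancel]

theorem eq_one_of_sq_eq_one_of_odd [Finite G] {H : Subgroup G} (hodd : Odd (Nat.card H)) {x : G}
    (hx : x ∈ H) (h : x * x = 1) : x = 1 :=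
  sqrt_unique hodd hx H.one_mem (by rw [h, one_mul])

theorem conj_smul_eq_of_fixed {g x : G} {c : Ω} (h : x • c = c) :
    (g * x * g⁻¹) • (g • c) = g • c := by
  rw [mul_smul, mul_smul, inv_smul_smul, h]

theorem fixed_smul_of_commute {g x : G} (h : g * x = x * g) {c : Ω} (hc : x • c = c) :
    x • (g • c) = g • c := by
  rw [← mul_smul, ← h, mul_smul, hc]

theorem conj_mem_Dsub {a : Ω} {t d x : G} (hd : d ∈ Dsub a t) (hx : x ∈ Dsub a t) :
    d * x * d⁻¹ ∈ Dsub a t :=
  (Dsub a t).mul_mem ((Dsub a t).mul_mem hd hx) ((Dsub a t).inv_mem hd)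

end Defs

section Setup

variable {G Ω : Type*} [Group G] [MulAction G Ω] {a : Ω} {t : G} {Q : Subgroup G}
variable (hS : Cfsg.IsRankOneSetup G Ω a t Q)
include hS

theorem t_inv : t⁻¹ = t := inv_of_mul_self hS.mul_self

theorem t_mem_invols : t ∈ invols G := ⟨hS.ne_one, hS.mul_self⟩

theorem ta_ne : t • a ≠ a := fun e => hS.not_mem e

theorem t_smul_ta : t • t • a = a := by rw [← mul_smul, hS.mul_self, one_smul]

theorem conj_t_mem {x : G} (hx : x ∈ Dsub a t) : t * x * t⁻¹ ∈ Dsub a t := by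
  have h1 : x • a = a := hx.1
  have h2 : x • t • a = t • a := hx.2
  refine ⟨show (t * x * t⁻¹) • a = a from ?_, show (t * x * t⁻¹) • t • a = t • a from ?_⟩
  · rw [t_inv hS, mul_smul, mul_smul, h2, t_smul_ta hS]
  · rw [t_inv hS, mul_smul, mul_smul, t_smul_ta hS, h1]

theorem exists_two {b c d e : Ω} (h : b ≠ c) (h' : d ≠ e) : ∃ g : G, g • b = d ∧ g • c = e :=
  (is_two_pretransitive_iff.1 hS.two_transitive) h h'

theorem isPretransitive : IsPretransitive G Ω :=
  haveI := hS.two_transitive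
  isPretransitive_of_is_two_pretransitive

theorem exists_smul_a (c : Ω) : ∃ g : G, g • a = c :=
  haveI := isPretransitive hS
  exists_smul_eq G a c

theorem finite_points [Finite G] : Finite Ω :=
  Finite.of_surjective (fun g : G => g • a) (exists_smul_a hS)

theorem exists_decomp {g : G} (hg : g ∈ stabilizer G a) :
    ∃ x ∈ Q, ∃ d ∈ Dsub a t, x * d = g := by
  have hle : Dsub a t ≤ Subgroup.normalizer (Q : Set G) := fun d hd => by
    rw [Subgroup.mem_normalizer_iff]
    exact fun x => ⟨fun hx => hS.conj_mem d hd.1 x hx, fun hx => by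
      have := hS.conj_mem d⁻¹ ((stabilizer G a).inv_mem hd.1) _ hx
      rwa [show d⁻¹ * (d * x * d⁻¹) * d⁻¹⁻¹ = x by group] at this⟩
  have h : g ∈ ((Q ⊔ Dsub a t : Subgroup G) : Set G) := by rw [hS.sup_eq]; exact hg
  rw [Subgroup.coe_mul_of_right_le_normalizer_left _ _ hle, Set.mem_mul] at h
  exact h

theorem eq_one_of_mem_Dsub {x : G} (hx : x ∈ Q) (hd : x ∈ Dsub a t) : x = 1 :=
  (Subgroup.mem_bot).1 (hS.inf_eq_bot.le ⟨hx, hd.2⟩)

theorem exists_Q_smul {b c : Ω} (hb : b ≠ a) (hc : c ≠ a) : ∃ x ∈ Q, x • b = c := by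
  have key : ∀ c : Ω, c ≠ a → ∃ x ∈ Q, x • (t • a) = c := fun c hc => by
    obtain ⟨g, h1, h2⟩ := exists_two hS (ta_ne hS).symm hc.symm
    obtain ⟨x, hx, d, hd, rfl⟩ := exists_decomp hS (g := g) h1
    rw [mul_smul, show d • t • a = t • a from hd.2] at h2
    exact ⟨x, hx, h2⟩
  obtain ⟨x, hx, rfl⟩ := key b hb
  obtain ⟨y, hy, rfl⟩ := key c hc
  exact ⟨y * x⁻¹, Q.mul_mem hy (Q.inv_mem hx), by rw [mul_smul, inv_smul_smul]⟩

theorem eq_one_of_fixed {x : G} (hx : x ∈ Q) {c : Ω} (hc : c ≠ a) (h : x • c = c) : x = 1 := by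
  obtain ⟨q, hq, rfl⟩ := exists_Q_smul hS (ta_ne hS) hc
  have h' : q⁻¹ * x * q ∈ Q ⊓ stabilizer G (t • a) := by
    refine ⟨Q.mul_mem (Q.mul_mem (Q.inv_mem hq) hx) hq, ?_⟩
    simp [SetLike.mem_coe, mem_stabilizer_iff, mul_smul, h]
  rw [hS.inf_eq_bot, Subgroup.mem_bot, mul_eq_one_iff_eq_inv] at h'
  exact mul_eq_left.1 h'

theorem eq_of_smul_eq {x y : G} (hx : x ∈ Q) (hy : y ∈ Q) {c : Ω} (hc : c ≠ a)
    (h : x • c = y • c) : x = y := by
  have := eq_one_of_fixed hS (Q.mul_mem (Q.inv_mem hy) hx) hc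
    (by rw [mul_smul, h, inv_smul_smul])
  exact (inv_mul_eq_one.1 this).symm

theorem existsUnique_smul {b c : Ω} (hb : b ≠ a) (hc : c ≠ a) : ∃! x : Q, (x : G) • b = c := by
  obtain ⟨x, hx, h⟩ := exists_Q_smul hS hb hc
  exact ⟨⟨x, hx⟩, h, fun y hy => Subtype.ext (eq_of_smul_eq hS y.2 hx hb (hy.trans h.symm))⟩

theorem card_points [Finite G] : Nat.card Ω = Nat.card Q + 1 := by
  classical
  haveI := finite_points hS
  rw [← Finite.card_option, eq_comm]
  refine Nat.card_congr (Equiv.ofBijective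
    (fun o : Option Q => o.elim a fun x => (x : G) • (t • a)) ⟨?_, ?_⟩)
  · have hne : ∀ x : Q, (x : G) • (t • a) ≠ a := fun x e => ta_ne hS (by
      rw [← inv_smul_eq_iff.2 e.symm]
      exact (stabilizer G a).inv_mem (hS.le x.2))
    rintro (_ | x) (_ | y) h
    · rfl
    · exact absurd h.symm (hne y)
    · exact absurd h (hne x)
    · exact congrArg some (Subtype.ext (eq_of_smul_eq hS x.2 y.2 (ta_ne hS) h))
  · intro c
    by_cases hc : c = a
    · exact ⟨none, hc.symm⟩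
    · obtain ⟨x, hx, rfl⟩ := exists_Q_smul hS (ta_ne hS) hc
      exact ⟨some ⟨x, hx⟩, rfl⟩

theorem card_stabilizer [Finite G] :
    Nat.card ↥(stabilizer G a) = Nat.card Q * Nat.card ↥(Dsub a t) := by
  rw [← Nat.card_prod, eq_comm]
  refine Nat.card_congr (Equiv.ofBijective
    (fun p : Q × ↥(Dsub a t) => (⟨p.1 * p.2, (stabilizer G a).mul_mem (hS.le p.1.2) p.2.2.1⟩ :
      stabilizer G a)) ⟨?_, ?_⟩)
  · rintro ⟨x, d⟩ ⟨y, e⟩ h
    have h : (x : G) * d = y * e := congrArg Subtype.val h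
    have h1 : (y : G)⁻¹ * x = e * (d : G)⁻¹ := by
      rw [eq_mul_inv_iff_mul_eq, mul_assoc, h, inv_mul_cancel_left]
    have h2 := eq_one_of_mem_Dsub hS (Q.mul_mem (Q.inv_mem y.2) x.2)
      (h1 ▸ (Dsub a t).mul_mem e.2 ((Dsub a t).inv_mem d.2))
    have h3 : (x : G) = y := (inv_mul_eq_one.1 h2).symm
    rw [h3] at h
    exact Prod.ext (Subtype.ext h3) (Subtype.ext (mul_left_cancel h))
  · rintro ⟨g, hg⟩
    obtain ⟨x, hx, d, hd, rfl⟩ := exists_decomp hS hg
    exact ⟨(⟨x, hx⟩, ⟨d, hd⟩), rfl⟩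

theorem card_group [Finite G] : Nat.card G =
    Nat.card Q * Nat.card ↥(Dsub a t) * (Nat.card Q + 1) := by
  haveI := isPretransitive hS
  rw [← card_stabilizer hS, ← card_points hS, ← index_stabilizer_of_transitive G a,
    Subgroup.card_mul_index]

theorem odd_points [Finite G] : Odd (Nat.card Ω) := by
  rw [card_points hS]
  exact hS.even_card.add_one

/-- The set-up transported by an element of the group. -/
theorem conj_setup (g : G) :
    Cfsg.IsRankOneSetup G Ω (g • a) (g * t * g⁻¹) (Q.map (MulAut.conj g).toMonoidHom) := by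
  have hst : ∀ c : Ω, stabilizer G (g • c) = (stabilizer G c).map (MulAut.conj g).toMonoidHom :=
    fun c => stabilizer_smul_eq_stabilizer_map_conj g c
  have hb : (g * t * g⁻¹) • (g • a) = g • (t • a) := by rw [mul_smul, mul_smul, inv_smul_smul]
  have hinj : Function.Injective (MulAut.conj g).toMonoidHom := (MulAut.conj g).injective
  refine ⟨hS.two_transitive, (conj_mem_invols g (t_mem_invols hS)).2,
    (conj_mem_invols g (t_mem_invols hS)).1, fun h => ta_ne hS ?_, ?_, ?_, ?_, ?_, ?_, ?_⟩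
  · rw [mem_stabilizer_iff, hb] at h
    exact smul_left_cancel g h
  · rw [hst]; exact Subgroup.map_mono hS.le
  · rw [hst]
    rintro _ ⟨h, hh, rfl⟩ _ ⟨x, hx, rfl⟩
    exact ⟨h * x * h⁻¹, hS.conj_mem h hh x hx, by simp only [map_mul, map_inv]⟩
  · rw [hb, hst, ← Subgroup.map_inf _ _ _ hinj, hS.inf_eq_bot, Subgroup.map_bot]
  · rw [hb, hst, hst, ← Subgroup.map_inf _ _ _ hinj, ← Subgroup.map_sup, hS.sup_eq]
  · rw [Subgroup.card_map_of_injective hinj]; exact hS.even_card
  · rw [hb, hst, hst, ← Subgroup.map_inf _ _ _ hinj, Subgroup.card_map_of_injective hinj]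
    exact hS.odd_card

/-- The set-up at any point. -/
theorem exists_setup (c : Ω) :
    ∃ (t' : G) (Q' : Subgroup G), Cfsg.IsRankOneSetup G Ω c t' Q' := by
  obtain ⟨g, rfl⟩ := exists_smul_a hS c
  exact ⟨_, _, conj_setup hS g⟩

/-- An involution fixes at most one point. -/
theorem fixed_eq [Finite G] {s : G} (hs : s ∈ invols G) {c c' : Ω} (h : s • c = c)
    (h' : s • c' = c') : c = c' := by
  by_contra hne
  obtain ⟨g, h1, h2⟩ := exists_two hS hne (ta_ne hS).symm
  have hmem : g * s * g⁻¹ ∈ Dsub a t := by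
    constructor
    · have := conj_smul_eq_of_fixed (g := g) h
      rwa [h1] at this
    · have := conj_smul_eq_of_fixed (g := g) h'
      rwa [h2] at this
  exact (conj_mem_invols g hs).1
    (eq_one_of_sq_eq_one_of_odd hS.odd_card hmem (conj_mem_invols g hs).2)

/-- An involution fixes a point. -/
theorem exists_fixed [Finite G] {s : G} (hs : s ∈ invols G) : ∃ c : Ω, s • c = c := by
  haveI := Fact.mk Nat.prime_two
  have ho : orderOf s = 2 := orderOf_eq_prime (by rw [pow_two]; exact hs.2) hs.1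
  have hp : IsPGroup 2 (Subgroup.zpowers s) :=
    IsPGroup.of_card (n := 1) (by rw [Nat.card_zpowers, ho, pow_one])
  obtain ⟨c, hc⟩ := hp.nonempty_fixed_point_of_prime_not_dvd_card Ω
    (fun h => Nat.not_odd_iff_even.2 ((even_iff_two_dvd).2 h) (odd_points hS))
  exact ⟨c, hc ⟨s, Subgroup.mem_zpowers s⟩⟩

theorem mem_Q [Finite G] {s : G} (hs : s * s = 1) (ha : s ∈ stabilizer G a) : s ∈ Q := by
  obtain ⟨x, hx, d, hd, rfl⟩ := exists_decomp hS ha
  have hdd : d * d ∈ Q := by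
    have h1 : d * x * d⁻¹ ∈ Q := hS.conj_mem d hd.1 x hx
    have h2 : d * d = (d * x * d⁻¹)⁻¹ * x⁻¹ := by
      calc d * d = (d * x * d⁻¹)⁻¹ * x⁻¹ * (x * d * (x * d)) := by group
        _ = _ := by rw [hs, mul_one]
    rw [h2]
    exact Q.mul_mem (Q.inv_mem h1) (Q.inv_mem hx)
  have := eq_one_of_sq_eq_one_of_odd hS.odd_card hd
    (eq_one_of_mem_Dsub hS hdd ((Dsub a t).mul_mem hd hd))
  rwa [this, mul_one]

theorem exists_involution [Finite G] : ∃ s, s ∈ invols G ∧ s • a = a ∧ s ∈ Q := by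
  haveI := Fact.mk Nat.prime_two
  obtain ⟨⟨s, hsQ⟩, hs⟩ := exists_prime_orderOf_dvd_card' (G := Q) 2
    (even_iff_two_dvd.1 hS.even_card)
  rw [Subgroup.orderOf_mk] at hs
  refine ⟨s, ⟨fun e => ?_, ?_⟩, hS.le hsQ, hsQ⟩
  · rw [e, orderOf_one] at hs; omega
  · rw [← pow_two, ← hs, pow_orderOf_eq_one]

theorem mem_involutionsIn {s : G} :
    s ∈ Cfsg.involutionsIn (stabilizer G a : Set G) ↔ s ∈ invols G ∧ s • a = a := by
  refine ⟨fun h => ⟨h.2, h.1⟩, fun h => ⟨h.2, h.1⟩⟩

/-- An involution fixing a given point other than the one fixed by another involution. -/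
theorem exists_involution_fixing [Finite G] (c : Ω) : ∃ s, s ∈ invols G ∧ s • c = c := by
  obtain ⟨t', Q', h'⟩ := exists_setup hS c
  obtain ⟨s, hs, hc, -⟩ := exists_involution h'
  exact ⟨s, hs, hc⟩

end Setup

end CfsgLib.RankOne
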