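import Cfsg.Agent.Lib.RankOne.Invol

/-!
Fixed points of subsets of the two-point stabiliser.
-/

set_option autoImplicit false
set_option linter.style.haveILetI false

namespace CfsgLib.RankOne

open MulAction

variable {G Ω : Type*} [Group G] [MulAction G Ω] {a : Ω} {t : G} {Q : Subgroup G}

/-- The points fixed by every element of `X`. -/
def Fix (Ω : Type*) [MulAction G Ω] (X : Set G) : Set Ω := {c | ∀ x ∈ X, x • c = c}

theorem smul_mem_Fix {X : Set G} {g : G} (hg : g ∈ Subgroup.centralizer X) {c : Ω}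
    (hc : c ∈ Fix Ω X) : g • c ∈ Fix Ω X := fun x hx =>
  fixed_smul_of_commute (Subgroup.mem_centralizer_iff.1 hg x hx).symm (hc x hx)

variable (hS : Cfsg.IsRankOneSetup G Ω a t Q)
include hS

/-- `C_Q(X)` is transitive on the other fixed points of `X`. -/
theorem exists_centralizing_Q_smul {X : Set G} (ha : a ∈ Fix Ω X) {b c : Ω} (hb : b ∈ Fix Ω X)
    (hc : c ∈ Fix Ω X) (hba : b ≠ a) (hca : c ≠ a) :
    ∃ q ∈ Subgroup.centralizer X ⊓ Q, q • b = c := by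
  obtain ⟨q, hq, h⟩ := exists_Q_smul hS hba hca
  refine ⟨q, ⟨Subgroup.mem_centralizer_iff.2 fun x hx => ?_, hq⟩, h⟩
  have hm : x * q * x⁻¹ ∈ Q := hS.conj_mem x (ha x hx) q hq
  have : x * q * x⁻¹ = q := eq_of_smul_eq hS hm hq hba (by
    rw [mul_smul, mul_smul, inv_smul_eq_iff.2 (hb x hx).symm, h, hc x hx])
  exact mul_inv_eq_iff_eq_mul.1 this

theorem exists_centralizing_fixing {X : Set G} {c b b' : Ω} (hc : c ∈ Fix Ω X)
    (hb : b ∈ Fix Ω X) (hb' : b' ∈ Fix Ω X) (h : b ≠ c) (h' : b' ≠ c) :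
    ∃ g ∈ Subgroup.centralizer X, g • c = c ∧ g • b = b' := by
  obtain ⟨t', Q', hS'⟩ := exists_setup hS c
  obtain ⟨q, hq, he⟩ := exists_centralizing_Q_smul hS' hc hb hb' h h'
  exact ⟨q, hq.1, hS'.le hq.2, he⟩

/-- The centraliser of `X` is doubly transitive on its fixed points. -/
theorem exists_centralizing_two {X : Set G}
    (h3 : ∃ b ∈ Fix Ω X, ∃ c ∈ Fix Ω X, ∃ d ∈ Fix Ω X, b ≠ c ∧ b ≠ d ∧ c ≠ d)
    {b₁ b₂ c₁ c₂ : Ω} (hb₁ : b₁ ∈ Fix Ω X) (hb₂ : b₂ ∈ Fix Ω X) (hc₁ : c₁ ∈ Fix Ω X)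
    (hc₂ : c₂ ∈ Fix Ω X) (hb : b₁ ≠ b₂) (hc : c₁ ≠ c₂) :
    ∃ g ∈ Subgroup.centralizer X, g • b₁ = c₁ ∧ g • b₂ = c₂ := by
  obtain ⟨e, he, he1, he2⟩ : ∃ e ∈ Fix Ω X, e ≠ b₁ ∧ e ≠ c₁ := by
    obtain ⟨b, hb', c, hc', d, hd', n1, n2, n3⟩ := h3
    by_contra hh
    push Not at hh
    by_cases x1 : b = b₁
    · exact n3 ((hh c hc' (fun e => n1 (x1.trans e.symm))).trans
        (hh d hd' (fun e => n2 (x1.trans e.symm))).symm)
    · by_cases x2 : c = b₁
      · exact n2 ((hh b hb' x1).trans (hh d hd' (fun e => n3 (x2.trans e.symm))).symm)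
      · exact n1 ((hh b hb' x1).trans (hh c hc' x2).symm)
  obtain ⟨g₁, hg₁, -, h1⟩ := exists_centralizing_fixing hS he hb₁ hc₁ he1.symm he2.symm
  have hne : g₁ • b₂ ≠ c₁ := by
    rw [← h1]; exact fun e => hb (smul_left_cancel g₁ e).symm
  obtain ⟨g₂, hg₂, h2, h3⟩ := exists_centralizing_fixing hS hc₁ (smul_mem_Fix hg₁ hb₂) hc₂ hne
    hc.symm
  exact ⟨g₂ * g₁, (Subgroup.centralizer X).mul_mem hg₂ hg₁, by rw [mul_smul, h1, h2],
    by rw [mul_smul, h3]⟩

theorem exists_involution_centralizing [Finite G] {X : Set G}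
    (hX : X ⊆ (Dsub a t : Set G))
    (h3 : ∃ b ∈ Fix Ω X, ∃ c ∈ Fix Ω X, ∃ d ∈ Fix Ω X, b ≠ c ∧ b ≠ d ∧ c ≠ d) :
    ∃ s ∈ Cfsg.involutionsIn (stabilizer G a : Set G), s ∈ Subgroup.centralizer X ∧ s ∈ Q := by
  have ha : a ∈ Fix Ω X := fun x hx => (hX hx).1
  have hta : t • a ∈ Fix Ω X := fun x hx => (hX hx).2
  have hne := ta_ne hS
  obtain ⟨g, hg, h1, h2⟩ := exists_centralizing_two hS h3 ha hta hta ha hne.symm hne
  have hev : Even (orderOf g) := by
    by_contra hn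
    obtain ⟨m, hm⟩ := Nat.not_even_iff_odd.1 hn
    have hmn : ∀ m : ℕ, (g ^ (2 * m)) • a = a := fun m => by
      induction m with
      | zero => rw [mul_zero, pow_zero, one_smul]
      | succ m ih => rw [show 2 * (m + 1) = 2 * m + 1 + 1 by ring, pow_succ, pow_succ, mul_smul,
          mul_smul, h1, h2, ih]
    have := hmn m
    have h' : (g ^ (2 * m + 1)) • a = a := by rw [← hm, pow_orderOf_eq_one, one_smul]
    rw [pow_succ', mul_smul, this, h1] at h'
    exact hne h'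
  obtain ⟨k, hk⟩ := hev
  have hz : g ^ k ∈ invols G := by
    have hpos := orderOf_pos g
    exact ⟨pow_ne_one_of_lt_orderOf (by omega) (by omega),
      by rw [← pow_add, ← hk, pow_orderOf_eq_one]⟩
  obtain ⟨c, hc⟩ := exists_fixed hS hz
  have hzc := (Subgroup.centralizer X).pow_mem hg k
  have hcX : c ∈ Fix Ω X := fun x hx =>
    fixed_eq hS hz (fixed_smul_of_commute (Subgroup.mem_centralizer_iff.1 hzc x hx) hc) hc
  obtain ⟨w, hw, hwc⟩ : ∃ w ∈ Subgroup.centralizer X, w • c = a := by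
    by_cases hca : c = a
    · exact ⟨1, Subgroup.one_mem _, by rw [one_smul, hca]⟩
    · obtain ⟨w, hw, e, -⟩ := exists_centralizing_two hS h3 hcX ha ha hcX hca (Ne.symm hca)
      exact ⟨w, hw, e⟩
  have hf : (w * g ^ k * w⁻¹) • a = a := by
    have := conj_smul_eq_of_fixed (g := w) hc
    rwa [hwc] at this
  have hi := conj_mem_invols w hz
  exact ⟨_, (mem_involutionsIn hS).2 ⟨hi, hf⟩, (Subgroup.centralizer X).mul_mem
    ((Subgroup.centralizer X).mul_mem hw hzc) ((Subgroup.centralizer X).inv_mem hw),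
    mem_Q hS hi.2 hf⟩

theorem even_centralizer_Q [Finite G] {X : Set G}
    (hX : X ⊆ (Dsub a t : Set G))
    (h3 : ∃ b ∈ Fix Ω X, ∃ c ∈ Fix Ω X, ∃ d ∈ Fix Ω X, b ≠ c ∧ b ≠ d ∧ c ≠ d) :
    Even (Nat.card ↥(Subgroup.centralizer X ⊓ Q)) := by
  haveI := Fact.mk Nat.prime_two
  obtain ⟨s, hs, h1, h2⟩ := exists_involution_centralizing hS hX h3
  rw [even_iff_two_dvd, ← show orderOf s = 2 from
    orderOf_eq_prime (by rw [pow_two]; exact hs.2.2) hs.2.1]
  exact Subgroup.orderOf_dvd_natCard _ ⟨h1, h2⟩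

/-- S1126. -/
theorem exists_conj_centralizing [Finite G] {X : Set G}
    (hX : X ⊆ (Dsub a t : Set G))
    (h3 : ∃ b ∈ Fix Ω X, ∃ c ∈ Fix Ω X, ∃ d ∈ Fix Ω X, b ≠ c ∧ b ≠ d ∧ c ≠ d) :
    ∃ k ∈ Dsub a t, ∀ x ∈ X, (k * x * k⁻¹) * t = t * (k * x * k⁻¹) := by
  obtain ⟨s, hs, h1, -⟩ := exists_involution_centralizing hS hX h3
  obtain ⟨s₀, hs₀, hr⟩ := exists_base hS
  obtain ⟨k, hk, he⟩ := exists_conj_inverted hS hs₀ hs
  refine ⟨k, hk.1, fun x hx => ?_⟩
  refine (commute_t_iff hS hs₀ hr (conj_mem_Dsub hk.1 (hX hx))).2 ?_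
  have e := Subgroup.mem_centralizer_iff.1 h1 x hx
  rw [← he] at e
  calc k * x * k⁻¹ * s₀ = k * (x * (k⁻¹ * s₀ * k)) * k⁻¹ := by group
    _ = k * ((k⁻¹ * s₀ * k) * x) * k⁻¹ := by rw [e]
    _ = _ := by group

theorem card_Fix_singleton [Finite G] {x : G} (hx : x ∈ Dsub a t) :
    Nat.card (Fix Ω ({x} : Set G)) = Nat.card ↥(Subgroup.centralizer {x} ⊓ Q) + 1 := by
  classical
  haveI := finite_points hS
  have ha : a ∈ Fix Ω ({x} : Set G) := by rintro y rfl; exact hx.1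
  have hta : t • a ∈ Fix Ω ({x} : Set G) := by rintro y rfl; exact hx.2
  have hne : ∀ q : ↥(Subgroup.centralizer {x} ⊓ Q), (q : G) • t • a ≠ a := fun q e => ta_ne hS (by
    rw [← inv_smul_eq_iff.2 e.symm]
    exact (stabilizer G a).inv_mem (hS.le q.2.2))
  rw [← Finite.card_option, eq_comm]
  refine Nat.card_congr (Equiv.ofBijective
    (fun o : Option ↥(Subgroup.centralizer {x} ⊓ Q) =>
      o.elim (⟨a, ha⟩ : Fix Ω ({x} : Set G))
        fun q => ⟨(q : G) • t • a, smul_mem_Fix q.2.1 hta⟩) ⟨?_, ?_⟩)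
  · rintro (_ | q) (_ | r) h
    · rfl
    · exact absurd (congrArg Subtype.val h).symm (hne r)
    · exact absurd (congrArg Subtype.val h) (hne q)
    · exact congrArg some (Subtype.ext
        (eq_of_smul_eq hS q.2.2 r.2.2 (ta_ne hS) (congrArg Subtype.val h)))
  · rintro ⟨c, hc⟩
    by_cases hca : c = a
    · exact ⟨none, Subtype.ext hca.symm⟩
    · obtain ⟨q, hq, rfl⟩ := exists_centralizing_Q_smul hS ha hta hc (ta_ne hS) hca
      exact ⟨some ⟨q, hq⟩, rfl⟩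

/-- S1128. -/
theorem inf_centralizer_eq_bot [Finite G] {x : G} (hx : x ∈ Cfsg.invertedBy (Dsub a t) t)
    (hx1 : x ≠ 1) : Q ⊓ Subgroup.centralizer {x} = ⊥ := by
  haveI := finite_points hS
  haveI := Fact.mk Nat.prime_two
  rw [eq_bot_iff]
  rintro q ⟨hq, hqx⟩
  rw [Subgroup.mem_bot]
  by_contra hq1
  have ha : a ∈ Fix Ω ({x} : Set G) := by rintro y rfl; exact hx.1.1
  have hta : t • a ∈ Fix Ω ({x} : Set G) := by rintro y rfl; exact hx.1.2
  have hne := ta_ne hS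
  have hX : ({x} : Set G) ⊆ (Dsub a t : Set G) := Set.singleton_subset_iff.2 hx.1
  have h3 : ∃ b ∈ Fix Ω ({x} : Set G), ∃ c ∈ Fix Ω ({x} : Set G), ∃ d ∈ Fix Ω ({x} : Set G),
      b ≠ c ∧ b ≠ d ∧ c ≠ d := by
    refine ⟨a, ha, t • a, hta, q • t • a, smul_mem_Fix hqx hta, hne.symm, fun e => hne ?_,
      fun e => hq1 (eq_one_of_fixed hS hq hne e.symm)⟩
    rw [← inv_smul_eq_iff.2 e]
    exact (stabilizer G a).inv_mem (hS.le hq)
  -- `t` fixes one of the fixed points of `x`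
  have hodd : Odd (Nat.card (Fix Ω ({x} : Set G))) := by
    rw [card_Fix_singleton hS hx.1]
    exact (even_centralizer_Q hS hX h3).add_one
  have hmap : ∀ g ∈ Subgroup.zpowers t, ∀ c ∈ Fix Ω ({x} : Set G), g • c ∈ Fix Ω ({x} : Set G) := by
    classical
    intro g hg c hc
    have ho : orderOf t = 2 := orderOf_eq_prime (by rw [pow_two]; exact hS.mul_self) hS.ne_one
    rw [mem_zpowers_iff_mem_range_orderOf, ho] at hg
    simp only [Finset.mem_image, Finset.mem_range] at hg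
    obtain ⟨n, hn, rfl⟩ := hg
    interval_cases n
    · rwa [pow_zero, one_smul]
    · rw [pow_one]
      rintro y rfl
      have h : y⁻¹ • c = c := inv_smul_eq_iff.2 (hc y rfl).symm
      calc y • t • c = (t * (t * y * t⁻¹)) • c := by
            rw [t_inv hS, ← mul_smul, show t * (t * y * t) = t * t * y * t by group, hS.mul_self,
              one_mul]
        _ = t • c := by rw [mul_smul, hx.2, h]
  letI : MulAction (Subgroup.zpowers t) (Fix Ω ({x} : Set G)) :=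
    { smul := fun g c => ⟨(g : G) • (c : Ω), hmap g g.2 c c.2⟩
      one_smul := fun c => Subtype.ext (one_smul G (c : Ω))
      mul_smul := fun g h c => Subtype.ext (mul_smul (g : G) (h : G) (c : Ω)) }
  have hp : IsPGroup 2 (Subgroup.zpowers t) := IsPGroup.of_card (n := 1) (by
    rw [Nat.card_zpowers, pow_one]
    exact orderOf_eq_prime (by rw [pow_two]; exact hS.mul_self) hS.ne_one)
  obtain ⟨⟨c, hcX⟩, hc⟩ := hp.nonempty_fixed_point_of_prime_not_dvd_card (Fix Ω ({x} : Set G))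
    (fun h => Nat.not_odd_iff_even.2 (even_iff_two_dvd.2 h) hodd)
  have htc : t • c = c := congrArg Subtype.val (hc ⟨t, Subgroup.mem_zpowers t⟩)
  have hca : a ≠ c := fun e => hne (by rw [e, htc])
  obtain ⟨t', Q', hS'⟩ := exists_setup hS c
  have htQ : t ∈ Q' := mem_Q hS' hS.mul_self htc
  have h2 : x * x ∈ Q' := by
    have := Q'.mul_mem (hS'.conj_mem x (hcX x rfl) t htQ) (Q'.inv_mem htQ)
    rwa [show x * t * x⁻¹ * t⁻¹ = x * (t * x * t⁻¹)⁻¹ by group, hx.2, inv_inv] at this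
  have h4 : x * x = 1 := eq_one_of_fixed hS' h2 hca (by rw [mul_smul, ha x rfl, ha x rfl])
  exact hx1 (eq_one_of_sq_eq_one_of_odd hS.odd_card hx.1 h4)

end CfsgLib.RankOne
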