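import Cfsg.Agent.Lib.RankOne.Basic

/-!
Involutions, the Bruhat form and the structure equation of the rank-one set-up.
-/

set_option autoImplicit false
set_option linter.style.haveILetI false

namespace CfsgLib.RankOne

open MulAction

/-- Two involutions whose product has odd order are conjugate. -/
theorem isConj_of_odd {M : Type*} [Group M] {s u : M} (hs : s * s = 1) (hu : u * u = 1)
    (h : Odd (orderOf (s * u))) : ∃ g : M, g * s * g⁻¹ = u := by
  obtain ⟨m, hm⟩ := h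
  refine ⟨(s * u) ^ m, ?_⟩
  set x := s * u with hx
  have hinv : s * x * s⁻¹ = x⁻¹ := by
    rw [inv_of_mul_self hs, hx, mul_inv_rev, inv_of_mul_self hu, inv_of_mul_self hs,
      ← mul_assoc, hs, one_mul]
  have h1 : x ^ m * s = s * (x ^ m)⁻¹ := by
    have h2 : s * x ^ m * s⁻¹ = (x ^ m)⁻¹ := by rw [← conj_pow, hinv, inv_pow]
    rw [← h2, inv_of_mul_self hs, ← mul_assoc, ← mul_assoc, hs, one_mul]
  have h3 : (x ^ m)⁻¹ * (x ^ m)⁻¹ = x := by
    rw [← mul_inv_rev, ← pow_add, inv_eq_iff_mul_eq_one, ← pow_succ]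
    rw [show m + m + 1 = orderOf x by omega, pow_orderOf_eq_one]
  rw [h1, mul_assoc, h3, hx, ← mul_assoc, hs, one_mul]

section Setup

variable {G Ω : Type*} [Group G] [MulAction G Ω] {a : Ω} {t : G} {Q : Subgroup G}
variable (hS : Cfsg.IsRankOneSetup G Ω a t Q)
include hS

/-- S1121, for arbitrary points. -/
theorem odd_mul_of_fixed_ne [Finite G] {s u : G} (hs : s ∈ invols G) (hu : u ∈ invols G) {c : Ω}
    (hc : s • c = c) (huc : u • c ≠ c) : Odd (orderOf (s * u)) := by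
  set x := s * u with hx
  by_contra hodd
  obtain ⟨k, hk⟩ := even_iff_two_dvd.1 (Nat.not_odd_iff_even.1 hodd)
  have hpos : 0 < orderOf x := orderOf_pos x
  set z := x ^ k with hzdef
  have hz : z ∈ invols G := by
    refine ⟨fun e => ?_, by rw [hzdef, ← pow_add, ← two_mul, ← hk, pow_orderOf_eq_one]⟩
    exact pow_ne_one_of_lt_orderOf (x := x) (n := k) (by omega) (by omega) e
  have hzi := inv_of_mul_self hz.2
  have h1 : s * x * s⁻¹ = x⁻¹ := by
    rw [hx, mul_inv_rev, inv_of_mul_self hu.2, inv_of_mul_self hs.2, ← mul_assoc, hs.2, one_mul]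
  have h2 : u * x * u⁻¹ = x⁻¹ := by
    rw [hx, mul_inv_rev, inv_of_mul_self hu.2, inv_of_mul_self hs.2, mul_assoc, mul_assoc, hu.2,
      mul_one]
  have key : ∀ w : G, w * x * w⁻¹ = x⁻¹ → w * z = z * w := fun w hw => by
    have : w * z * w⁻¹ = z := by rw [hzdef, ← conj_pow, hw, inv_pow, ← hzdef, hzi]
    exact mul_inv_eq_iff_eq_mul.1 this
  obtain ⟨e, he⟩ := exists_fixed hS hz
  have hse : s • e = e := fixed_eq hS hz (fixed_smul_of_commute (key s h1) he) he
  have hue : u • e = e := fixed_eq hS hz (fixed_smul_of_commute (key u h2) he) he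
  exact huc ((fixed_eq hS hs hse hc) ▸ hue)

theorem isConj_invols [Finite G] {u v : G} (hu : u ∈ invols G) (hv : v ∈ invols G) :
    ∃ g : G, g * u * g⁻¹ = v := by
  obtain ⟨c, hc⟩ := exists_fixed hS hu
  have step : ∀ {u v : G}, u ∈ invols G → v ∈ invols G → ∀ c : Ω, u • c = c → v • c ≠ c →
      ∃ g : G, g * u * g⁻¹ = v := fun hu hv c h h' =>
    isConj_of_odd hu.2 hv.2 (odd_mul_of_fixed_ne hS hu hv h h')
  by_cases hvc : v • c = c
  · obtain ⟨c', hne⟩ : ∃ c' : Ω, c' ≠ c := by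
      by_cases h : c = a
      · exact ⟨t • a, fun e => ta_ne hS (e.trans h)⟩
      · exact ⟨a, Ne.symm h⟩
    obtain ⟨w, hw, hwc⟩ := exists_involution_fixing hS c'
    have hwn : w • c ≠ c := fun e => hne (fixed_eq hS hw hwc e)
    obtain ⟨g, hg⟩ := step hu hw c hc hwn
    obtain ⟨g', hg'⟩ := step hw hv c' hwc (fun e => hne (fixed_eq hS hv e hvc))
    refine ⟨g' * g, ?_⟩
    rw [← hg', ← hg]
    group
  · exact step hu hv c hc hvc

theorem bruhat_exists {g : G} (hg : g ∉ stabilizer G a) :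
    ∃ p ∈ stabilizer G a, ∃ y ∈ Q, g = p * t * y := by
  have hne : g⁻¹ • a ≠ a := fun e => hg (by
    rw [mem_stabilizer_iff, ← inv_smul_eq_iff.1 e.symm.symm])
  obtain ⟨y, hy, h⟩ := exists_Q_smul hS hne (ta_ne hS)
  refine ⟨g * y⁻¹ * t, ?_, y, hy, ?_⟩
  · rw [mem_stabilizer_iff, mul_smul, mul_smul, ← h, inv_smul_smul, smul_inv_smul]
  · rw [mul_assoc (g * y⁻¹), hS.mul_self, mul_one, inv_mul_cancel_right]

theorem bruhat_unique {p q y z : G} (hp : p ∈ stabilizer G a) (hq : q ∈ stabilizer G a)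
    (hy : y ∈ Q) (hz : z ∈ Q) (h : p * t * y = q * t * z) : p = q ∧ y = z := by
  have key : ∀ p y : G, p ∈ stabilizer G a → (p * t * y)⁻¹ • a = y⁻¹ • t • a := fun p y hp => by
    rw [mul_inv_rev, mul_inv_rev, t_inv hS, mul_smul, mul_smul,
      show p⁻¹ • a = a from (stabilizer G a).inv_mem hp]
  have h1 : y = z := inv_injective (eq_of_smul_eq hS (Q.inv_mem hy) (Q.inv_mem hz) (ta_ne hS)
    (by rw [← key p y hp, h, key q z hq]))
  subst h1
  exact ⟨mul_right_cancel (mul_right_cancel h), rfl⟩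

theorem bruhat_unique' {g h f g' h' f' : G} (hg : g ∈ Q) (hh : h ∈ Dsub a t) (hf : f ∈ Q)
    (hg' : g' ∈ Q) (hh' : h' ∈ Dsub a t) (hf' : f' ∈ Q)
    (he : g * h * t * f = g' * h' * t * f') : g = g' ∧ h = h' ∧ f = f' := by
  obtain ⟨h1, h2⟩ := bruhat_unique hS ((stabilizer G a).mul_mem (hS.le hg) hh.1)
    ((stabilizer G a).mul_mem (hS.le hg') hh'.1) hf hf' he
  have h3 : g'⁻¹ * g = h' * h⁻¹ := by
    rw [eq_mul_inv_iff_mul_eq, mul_assoc, h1, inv_mul_cancel_left]
  have h4 := eq_one_of_mem_Dsub hS (Q.mul_mem (Q.inv_mem hg') hg)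
    (h3 ▸ (Dsub a t).mul_mem hh' ((Dsub a t).inv_mem hh))
  have h5 : g = g' := (inv_mul_eq_one.1 h4).symm
  subst h5
  exact ⟨rfl, mul_left_cancel h1, h2⟩

theorem inverted_mem_invols {k : G} (hk : k ∈ Cfsg.invertedBy (Dsub a t) t) :
    k * t ∈ invols G := by
  refine ⟨fun e => ?_, ?_⟩
  · have h : (k * t) • a = t • a := by rw [mul_smul]; exact hk.1.2
    rw [e, one_smul] at h
    exact ta_ne hS h.symm
  · rw [show k * t * (k * t) = k * (t * k * t⁻¹) * (t * t) by group, hk.2, hS.mul_self]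
    group

theorem exists_inverted_form {u : G} (hu : u ∈ invols G) (ha : u • a ≠ a) :
    ∃ y ∈ Q, ∃ k ∈ Cfsg.invertedBy (Dsub a t) t, u = y⁻¹ * k * t * y := by
  obtain ⟨p, hp, y, hy, rfl⟩ := bruhat_exists hS (g := u) ha
  have hg : y * p ∈ stabilizer G a := (stabilizer G a).mul_mem (hS.le hy) hp
  have h2 : y * p * t * (y * p * t) = 1 := by
    rw [show y * p * t * (y * p * t) = y * (p * t * y * (p * t * y)) * y⁻¹ by group, hu.2]
    group
  have h3 : (y * p) • t • a = t • a := by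
    have e1 : (y * p * t) • t • a = a := by
      rw [mul_smul, t_smul_ta hS]; exact hg
    have e2 := congrArg ((y * p * t) • ·) e1
    simp only [← mul_smul] at e2
    rw [← mul_assoc, h2, one_mul, mul_smul] at e2
    exact e2.symm
  refine ⟨y, hy, y * p, ⟨⟨hg, h3⟩, ?_⟩, by group⟩
  rw [t_inv hS]
  calc t * (y * p) * t = (y * p)⁻¹ * (y * p * t * (y * p * t)) := by group
    _ = _ := by rw [h2, mul_one]

theorem inverted_form_unique {y z k m : G} (hy : y ∈ Q) (hz : z ∈ Q)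
    (hk : k ∈ Cfsg.invertedBy (Dsub a t) t) (hm : m ∈ Cfsg.invertedBy (Dsub a t) t)
    (h : y⁻¹ * k * t * y = z⁻¹ * m * t * z) : k = m ∧ y = z := by
  obtain ⟨h1, h2⟩ := bruhat_unique hS ((stabilizer G a).mul_mem ((stabilizer G a).inv_mem
    (hS.le hy)) hk.1.1) ((stabilizer G a).mul_mem ((stabilizer G a).inv_mem (hS.le hz)) hm.1.1)
    hy hz h
  subst h2
  exact ⟨mul_left_cancel h1, rfl⟩

theorem card_involutionsIn [Finite G] :
    Nat.card (Cfsg.invertedBy (Dsub a t) t) =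
      Nat.card (Cfsg.involutionsIn (stabilizer G a : Set G)) := by
  classical
  haveI := finite_points hS
  set J := Cfsg.involutionsIn (stabilizer G a : Set G) with hJ
  set K := Cfsg.invertedBy (Dsub a t) t
  choose g hg using exists_smul_a hS
  have e1 : Nat.card (invols G) = Nat.card Ω * Nat.card J := by
    rw [← Nat.card_prod, eq_comm]
    refine Nat.card_congr (Equiv.ofBijective
      (fun p : Ω × J => (⟨g p.1 * p.2 * (g p.1)⁻¹,
        conj_mem_invols _ ((mem_involutionsIn hS).1 p.2.2).1⟩ : invols G)) ⟨?_, ?_⟩)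
    · rintro ⟨c, j, hj⟩ ⟨c', j', hj'⟩ h
      have h : g c * j * (g c)⁻¹ = g c' * j' * (g c')⁻¹ := congrArg Subtype.val h
      have f1 := conj_smul_eq_of_fixed (g := g c) ((mem_involutionsIn hS).1 hj).2
      have f2 := conj_smul_eq_of_fixed (g := g c') ((mem_involutionsIn hS).1 hj').2
      rw [hg] at f1 f2
      rw [← h] at f2
      have := fixed_eq hS (conj_mem_invols _ ((mem_involutionsIn hS).1 hj).1) f1 f2
      subst this
      have : j = j' := mul_left_cancel (mul_right_cancel h)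
      subst this
      rfl
    · rintro ⟨u, hu⟩
      obtain ⟨c, hc⟩ := exists_fixed hS hu
      have hj : (g c)⁻¹ * u * g c ∈ J := by
        refine (mem_involutionsIn hS).2 ⟨by simpa using conj_mem_invols (g c)⁻¹ hu, ?_⟩
        rw [mul_smul, mul_smul, hg, hc, inv_smul_eq_iff, hg]
      exact ⟨(c, ⟨_, hj⟩), Subtype.ext (show g c * ((g c)⁻¹ * u * g c) * (g c)⁻¹ = u by group)⟩
  have e2 : Nat.card (invols G) = Nat.card J + Nat.card (Q × K) := by
    have hsub : J ⊆ invols G := fun x hx => hx.2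
    rw [Nat.card_coe_set_eq, Nat.card_coe_set_eq, ← Set.ncard_sdiff_add_ncard_of_subset hsub,
      add_comm]
    congr 1
    rw [← Nat.card_coe_set_eq, eq_comm]
    refine Nat.card_congr (Equiv.ofBijective
      (fun p : Q × K => (⟨(p.1 : G)⁻¹ * p.2 * t * p.1, ?_, ?_⟩ : ↥(invols G \ J))) ⟨?_, ?_⟩)
    · have := conj_mem_invols (p.1 : G)⁻¹ (inverted_mem_invols hS p.2.2)
      rwa [inv_inv, ← mul_assoc] at this
    · intro h
      have h' : ((p.1 : G)⁻¹ * p.2 * t * p.1) • a = a := ((mem_involutionsIn hS).1 h).2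
      rw [mul_smul, mul_smul, mul_smul, show (p.1 : G) • a = a from hS.le p.1.2,
        show (p.2 : G) • t • a = t • a from p.2.2.1.2, inv_smul_eq_iff,
        show (p.1 : G) • a = a from hS.le p.1.2] at h'
      exact ta_ne hS h'
    · rintro ⟨y, k⟩ ⟨z, m⟩ h
      obtain ⟨h1, h2⟩ := inverted_form_unique hS y.2 z.2 k.2 m.2 (congrArg Subtype.val h)
      exact Prod.ext (Subtype.ext h2) (Subtype.ext h1)
    · rintro ⟨u, hu, huJ⟩
      obtain ⟨y, hy, k, hk, rfl⟩ :=
        exists_inverted_form hS hu (fun e => huJ ((mem_involutionsIn hS).2 ⟨hu, e⟩))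
      exact ⟨(⟨y, hy⟩, ⟨k, hk⟩), rfl⟩
  rw [Nat.card_prod, e1, card_points hS, add_mul, one_mul, add_comm, Nat.add_left_cancel_iff] at e2
  exact (Nat.eq_of_mul_eq_mul_left Nat.card_pos e2).symm

/-- `k` is the structure invariant of `s`. -/
def Rel (_hS : Cfsg.IsRankOneSetup G Ω a t Q) (s k : G) : Prop :=
  k ∈ Cfsg.invertedBy (Dsub a t) t ∧ ∃ y ∈ Q, t * s * t = y⁻¹ * k * t * y

theorem rel_exists [Finite G] {s : G} (hs : s ∈ Cfsg.involutionsIn (stabilizer G a : Set G)) :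
    ∃ k, Rel hS s k := by
  obtain ⟨h1, h2⟩ := (mem_involutionsIn hS).1 hs
  have h3 : t * s * t ∈ invols G := by
    have := conj_mem_invols t h1; rwa [t_inv hS] at this
  have h4 : (t * s * t) • a ≠ a := fun e => by
    refine ta_ne hS ((fixed_eq hS h1 h2 ?_).symm)
    rw [mul_smul, mul_smul] at e
    calc s • t • a = t • t • (s • t • a) := by rw [← mul_smul t t, hS.mul_self, one_smul]
      _ = t • a := by rw [e]
  obtain ⟨y, hy, k, hk, he⟩ := exists_inverted_form hS h3 h4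
  exact ⟨k, hk, y, hy, he⟩

theorem rel_unique {s k m : G} (h : Rel hS s k) (h' : Rel hS s m) : k = m := by
  obtain ⟨hk, y, hy, he⟩ := h
  obtain ⟨hm, z, hz, he'⟩ := h'
  exact (inverted_form_unique hS hy hz hk hm (he ▸ he')).1

theorem conj_involutionsIn {s g : G} (hs : s ∈ Cfsg.involutionsIn (stabilizer G a : Set G))
    (hg : g ∈ stabilizer G a) :
    g * s * g⁻¹ ∈ Cfsg.involutionsIn (stabilizer G a : Set G) := by
  obtain ⟨h1, h2⟩ := (mem_involutionsIn hS).1 hs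
  refine (mem_involutionsIn hS).2 ⟨conj_mem_invols g h1, ?_⟩
  exact (stabilizer G a).mul_mem ((stabilizer G a).mul_mem hg h2) ((stabilizer G a).inv_mem hg)

theorem rel_conj {s k d : G} (h : Rel hS s k) (hd : d ∈ Dsub a t)
    (hk' : (t * d * t)⁻¹ * k * d ∈ Cfsg.invertedBy (Dsub a t) t) :
    Rel hS (d⁻¹ * s * d) ((t * d * t)⁻¹ * k * d) := by
  obtain ⟨-, y, hy, he⟩ := h
  have hd' : t * d * t ∈ Dsub a t := by
    have := conj_t_mem hS hd; rwa [t_inv hS] at this
  refine ⟨hk', (t * d * t)⁻¹ * y * (t * d * t), ?_, ?_⟩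
  · have := hS.conj_mem _ ((stabilizer G a).inv_mem hd'.1) y hy
    rwa [inv_inv] at this
  · have ht := t_inv hS
    calc t * (d⁻¹ * s * d) * t = t * (d⁻¹ * s * d) * t⁻¹ := by rw [ht]
      _ = (t * d * t⁻¹)⁻¹ * (t * s * t⁻¹) * (t * d * t⁻¹) := by group
      _ = (t * d * t)⁻¹ * (y⁻¹ * k * t * y) * (t * d * t) := by rw [ht, he]
      _ = (t * d * t)⁻¹ * y⁻¹ * k * t⁻¹ * y * (t * d * t) := by rw [ht]; group
      _ = _ := by group

theorem rel_conj_inverted [Finite G] {s k i : G} (h : Rel hS s k)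
    (hi : i ∈ Cfsg.invertedBy (Dsub a t) t) : Rel hS (i⁻¹ * s * i) (i * k * i) := by
  have e : t * i * t = i⁻¹ := by
    have := hi.2; rwa [t_inv hS] at this
  have h' := rel_conj hS h hi.1
  rw [e, inv_inv] at h'
  refine h' ⟨(Dsub a t).mul_mem ((Dsub a t).mul_mem hi.1 h.1.1) hi.1, ?_⟩
  rw [show t * (i * k * i) * t⁻¹ = (t * i * t⁻¹) * (t * k * t⁻¹) * (t * i * t⁻¹) by group, hi.2,
    h.1.2]
  group

theorem exists_rel_conj [Finite G] {s k : G} (h : Rel hS s k) {m : G}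
    (hm : m ∈ Cfsg.invertedBy (Dsub a t) t) :
    ∃ i ∈ Cfsg.invertedBy (Dsub a t) t, Rel hS (i⁻¹ * s * i) m := by
  have hn := fun x hx => conj_t_mem hS (x := x) hx
  obtain ⟨j, hj, hjj⟩ := exists_inverted_sqrt hS.mul_self hS.odd_card hn h.1
  have hjmj : j * m * j ∈ Cfsg.invertedBy (Dsub a t) t := by
    refine ⟨(Dsub a t).mul_mem ((Dsub a t).mul_mem hj.1 hm.1) hj.1, ?_⟩
    rw [show t * (j * m * j) * t⁻¹ = (t * j * t⁻¹) * (t * m * t⁻¹) * (t * j * t⁻¹) by group,
      hj.2, hm.2]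
    group
  obtain ⟨z, hz, hzz⟩ := exists_inverted_sqrt hS.mul_self hS.odd_card hn hjmj
  have hi : j⁻¹ * z * j⁻¹ ∈ Cfsg.invertedBy (Dsub a t) t := by
    refine ⟨(Dsub a t).mul_mem ((Dsub a t).mul_mem ((Dsub a t).inv_mem hj.1) hz.1)
      ((Dsub a t).inv_mem hj.1), ?_⟩
    rw [show t * (j⁻¹ * z * j⁻¹) * t⁻¹ = (t * j * t⁻¹)⁻¹ * (t * z * t⁻¹) * (t * j * t⁻¹)⁻¹ by
      group, hj.2, hz.2]
    group
  refine ⟨_, hi, ?_⟩
  have h' := rel_conj_inverted hS h hi
  rwa [show j⁻¹ * z * j⁻¹ * k * (j⁻¹ * z * j⁻¹) = m by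
    rw [← hjj]
    calc j⁻¹ * z * j⁻¹ * (j * j) * (j⁻¹ * z * j⁻¹) = j⁻¹ * (z * z) * j⁻¹ := by group
      _ = m := by rw [hzz]; group] at h'

theorem rel_inj [Finite G] {s s' k : G} (hs : s ∈ Cfsg.involutionsIn (stabilizer G a : Set G))
    (hs' : s' ∈ Cfsg.involutionsIn (stabilizer G a : Set G)) (h : Rel hS s k) (h' : Rel hS s' k) :
    s = s' := by
  choose f hf using fun x : Cfsg.involutionsIn (stabilizer G a : Set G) => rel_exists hS x.2
  let F : Cfsg.involutionsIn (stabilizer G a : Set G) → Cfsg.invertedBy (Dsub a t) t :=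
    fun x => ⟨f x, (hf x).1⟩
  have hsur : Function.Surjective F := by
    rintro ⟨m, hm⟩
    obtain ⟨i, hi, hr⟩ := exists_rel_conj hS (hf ⟨s, hs⟩) hm
    have hmem := conj_involutionsIn hS hs ((stabilizer G a).inv_mem hi.1.1)
    rw [inv_inv] at hmem
    exact ⟨⟨_, hmem⟩, Subtype.ext (rel_unique hS (hf ⟨_, hmem⟩) hr)⟩
  have hbij : Function.Bijective F :=
    (Nat.bijective_iff_surjective_and_card F).2 ⟨hsur, (card_involutionsIn hS).symm⟩
  exact congrArg Subtype.val (hbij.1 (a₁ := ⟨s, hs⟩) (a₂ := ⟨s', hs'⟩)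
    (Subtype.ext ((rel_unique hS (hf ⟨s, hs⟩) h).trans (rel_unique hS (hf ⟨s', hs'⟩) h').symm)))

theorem exists_conj_inverted [Finite G] {s s' : G}
    (hs : s ∈ Cfsg.involutionsIn (stabilizer G a : Set G))
    (hs' : s' ∈ Cfsg.involutionsIn (stabilizer G a : Set G)) :
    ∃ i ∈ Cfsg.invertedBy (Dsub a t) t, i⁻¹ * s * i = s' := by
  obtain ⟨k, hk⟩ := rel_exists hS hs
  obtain ⟨m, hm⟩ := rel_exists hS hs'
  obtain ⟨i, hi, hr⟩ := exists_rel_conj hS hk hm.1
  have hmem := conj_involutionsIn hS hs ((stabilizer G a).inv_mem hi.1.1)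
  rw [inv_inv] at hmem
  exact ⟨i, hi, rel_inj hS hmem hs' hr hm⟩

theorem one_mem_inverted : (1 : G) ∈ Cfsg.invertedBy (Dsub a t) t :=
  ⟨(Dsub a t).one_mem, by simp⟩

theorem exists_base [Finite G] :
    ∃ s ∈ Cfsg.involutionsIn (stabilizer G a : Set G), Rel hS s 1 := by
  obtain ⟨s, h1, h2, -⟩ := exists_involution hS
  have hs := (mem_involutionsIn hS).2 ⟨h1, h2⟩
  obtain ⟨k, hk⟩ := rel_exists hS hs
  obtain ⟨i, hi, hr⟩ := exists_rel_conj hS hk (one_mem_inverted hS)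
  have hmem := conj_involutionsIn hS hs ((stabilizer G a).inv_mem hi.1.1)
  rw [inv_inv] at hmem
  exact ⟨_, hmem, hr⟩

theorem rel_one_iff {s r : G} (hr : r ∈ Q) (h : t * s * t = r⁻¹ * t * r) : Rel hS s 1 :=
  ⟨one_mem_inverted hS, r, hr, by rw [mul_one]; exact h⟩

/-- `C_D(t) = C_D(s₀)`. -/
theorem commute_t_iff [Finite G] {s : G} (hs : s ∈ Cfsg.involutionsIn (stabilizer G a : Set G))
    (h : Rel hS s 1) {d : G} (hd : d ∈ Dsub a t) : d * t = t * d ↔ d * s = s * d := by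
  have ht := hS.mul_self
  constructor
  · intro e
    have e' : t * d * t = d := by rw [← e, mul_assoc, ht, mul_one]
    have hk : (t * d * t)⁻¹ * 1 * d = 1 := by rw [e', mul_one, inv_mul_cancel]
    have h' := rel_conj hS h hd (by rw [hk]; exact one_mem_inverted hS)
    rw [hk] at h'
    have hmem := conj_involutionsIn hS hs ((stabilizer G a).inv_mem hd.1)
    rw [inv_inv] at hmem
    have h2 : d⁻¹ * s * d = s := rel_inj hS hmem hs h' h
    rw [mul_assoc, inv_mul_eq_iff_eq_mul] at h2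
    exact h2.symm
  · intro e
    obtain ⟨k, hk⟩ := rel_exists hS hs
    have hd' : d⁻¹ * s * d = s := by rw [mul_assoc, ← e, inv_mul_cancel_left]
    -- the general equivariance without assuming the new invariant lies in `K`
    obtain ⟨-, y, hy, he⟩ := h
    have hmem : t * d * t ∈ Dsub a t := by
      have := conj_t_mem hS hd; rwa [t_inv hS] at this
    have h1 : (t * d * t)⁻¹ * y⁻¹ * (t * d * t) ∈ Q := by
      have := hS.conj_mem _ ((stabilizer G a).inv_mem hmem.1) y⁻¹ (Q.inv_mem hy)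
      rwa [inv_inv] at this
    have h2 : (t * d * t)⁻¹ * d ∈ Dsub a t := (Dsub a t).mul_mem ((Dsub a t).inv_mem hmem) hd
    have key : t * s * t = (t * d * t)⁻¹ * y⁻¹ * (t * d * t) * ((t * d * t)⁻¹ * d) * t *
        ((t * d * t)⁻¹ * y * (t * d * t)) := by
      calc t * s * t = t * (d⁻¹ * s * d) * t⁻¹ := by rw [hd', t_inv hS]
        _ = (t * d * t⁻¹)⁻¹ * (t * s * t⁻¹) * (t * d * t⁻¹) := by group
        _ = (t * d * t)⁻¹ * (y⁻¹ * 1 * t * y) * (t * d * t) := by rw [t_inv hS, he]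
        _ = (t * d * t)⁻¹ * y⁻¹ * t⁻¹ * y * (t * d * t) := by rw [t_inv hS]; group
        _ = _ := by group
    have hy' : (t * d * t)⁻¹ * y * (t * d * t) ∈ Q := by
      have := hS.conj_mem _ ((stabilizer G a).inv_mem hmem.1) y hy
      rwa [inv_inv] at this
    have h3 := (bruhat_unique' hS (Q.inv_mem hy) (Dsub a t).one_mem hy h1 h2 hy'
      (he ▸ key)).2.1
    have h4 : t * d * t = d := inv_mul_eq_one.1 h3.symm
    calc d * t = t * d * t * t := by rw [h4]
      _ = t * d := by rw [mul_assoc, ht, mul_one]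

end Setup

end CfsgLib.RankOne
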