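import Mathlib
import Cfsg.Prelude.Def_LieRecognition

/-!
An involution acting on a subgroup of odd order: fixed elements times inverted elements.
-/

set_option autoImplicit false
set_option linter.style.haveILetI false

namespace CfsgLib.RankOne

variable {M : Type*} [Group M] [Finite M] {t : M} {X : Subgroup M}

/-- Square roots in a subgroup of odd order. -/
theorem exists_sqrt (hodd : Odd (Nat.card X)) {x : M} (hx : x ∈ X) : ∃ i ∈ X, i * i = x := by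
  have hc : (Nat.card X).Coprime 2 := (Nat.coprime_two_right).2 hodd
  obtain ⟨i, hi⟩ := (powCoprime hc).surjective ⟨x, hx⟩
  exact ⟨i, i.2, by simpa [pow_two] using congrArg Subtype.val hi⟩

theorem sqrt_unique (hodd : Odd (Nat.card X)) {i j : M} (hi : i ∈ X) (hj : j ∈ X)
    (h : i * i = j * j) : i = j := by
  have hc : (Nat.card X).Coprime 2 := (Nat.coprime_two_right).2 hodd
  have := (powCoprime hc).injective (a₁ := ⟨i, hi⟩) (a₂ := ⟨j, hj⟩)
    (Subtype.ext (by simpa [pow_two] using h))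
  exact congrArg Subtype.val this

/-- An element commuting with the square of an element of odd order commutes with it. -/
theorem commute_of_commute_sq (hodd : Odd (Nat.card X)) {i d : M} (hi : i ∈ X)
    (h : Commute d (i * i)) : Commute d i := by
  obtain ⟨m, hm⟩ := exists_pow_eq_self_of_coprime (x := i) (n := 2)
    (((Nat.coprime_two_right).2 hodd).coprime_dvd_left (Subgroup.orderOf_dvd_natCard X hi)).symm
  rw [← hm, pow_two]
  exact h.pow_right m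

variable (ht : t * t = 1) (hodd : Odd (Nat.card X)) (hn : ∀ x ∈ X, t * x * t⁻¹ ∈ X)
include ht hodd hn

omit [Finite M] hodd hn in
theorem inv_eq_self : t⁻¹ = t := inv_eq_of_mul_eq_one_left ht

omit [Finite M] hodd in
theorem invertedBy_inv {k : M} (hk : k ∈ Cfsg.invertedBy X t) : k⁻¹ ∈ Cfsg.invertedBy X t := by
  refine ⟨X.inv_mem hk.1, ?_⟩
  rw [show t * k⁻¹ * t⁻¹ = (t * k * t⁻¹)⁻¹ by group, hk.2]

theorem sqrt_inverted {k i : M} (hk : k ∈ Cfsg.invertedBy X t) (hi : i ∈ X) (hik : i * i = k) :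
    i ∈ Cfsg.invertedBy X t := by
  refine ⟨hi, sqrt_unique hodd (hn i hi) (X.inv_mem hi) ?_⟩
  rw [show t * i * t⁻¹ * (t * i * t⁻¹) = t * (i * i) * t⁻¹ by group, hik, hk.2, ← hik]
  group

theorem exists_inverted_sqrt {k : M} (hk : k ∈ Cfsg.invertedBy X t) :
    ∃ i ∈ Cfsg.invertedBy X t, i * i = k := by
  obtain ⟨i, hi, hik⟩ := exists_sqrt hodd hk.1
  exact ⟨i, sqrt_inverted ht hodd hn hk hi hik, hik⟩

/-- `x = c i` with `c` fixed and `i` inverted, uniquely. -/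
theorem existsUnique_decomp {x : M} (hx : x ∈ X) :
    ∃! p : M × M, p.1 ∈ X ⊓ Subgroup.centralizer {t} ∧ p.2 ∈ Cfsg.invertedBy X t ∧
      x = p.1 * p.2 := by
  have hti := inv_eq_self ht
  have hw : (t * x * t⁻¹)⁻¹ * x ∈ Cfsg.invertedBy X t := by
    refine ⟨X.mul_mem (X.inv_mem (hn x hx)) hx, ?_⟩
    rw [show t * ((t * x * t⁻¹)⁻¹ * x) * t⁻¹ = (t * t) * x⁻¹ * (t * t)⁻¹ * (t * x * t⁻¹) by group,
      ht]
    group
  obtain ⟨i, hi, hii⟩ := exists_inverted_sqrt ht hodd hn hw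
  have hc : x * i⁻¹ ∈ X ⊓ Subgroup.centralizer {t} := by
    refine ⟨X.mul_mem hx (X.inv_mem hi.1), Subgroup.mem_centralizer_iff.2 ?_⟩
    rintro v rfl
    have h1 : v * (x * i⁻¹) * v⁻¹ = x * i⁻¹ := by
      calc v * (x * i⁻¹) * v⁻¹ = v * x * v⁻¹ * (v * i * v⁻¹)⁻¹ := by group
        _ = v * x * v⁻¹ * i := by rw [hi.2, inv_inv]
        _ = v * x * v⁻¹ * (i * i) * i⁻¹ := by group
        _ = x * i⁻¹ := by rw [hii]; group
    exact mul_inv_eq_iff_eq_mul.1 h1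
  refine ⟨(x * i⁻¹, i), ⟨hc, hi, by group⟩, ?_⟩
  rintro ⟨c, j⟩ ⟨hc', hj, hxe⟩
  simp only at hc' hj hxe
  have hct : t * c * t⁻¹ = c := by
    rw [Subgroup.mem_centralizer_iff.1 hc'.2 t rfl, mul_inv_cancel_right]
  have : j = i := sqrt_unique hodd hj.1 hi.1 (by
    rw [hii, hxe, show t * (c * j) * t⁻¹ = (t * c * t⁻¹) * (t * j * t⁻¹) by group, hct, hj.2]
    group)
  subst this
  rw [hxe, mul_inv_cancel_right]

theorem card_eq_mul :
    Nat.card X = Nat.card ↥(X ⊓ Subgroup.centralizer {t}) * Nat.card (Cfsg.invertedBy X t) := by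
  rw [← Nat.card_prod]
  refine (Nat.card_congr (Equiv.ofBijective
    (fun p : ↥(X ⊓ Subgroup.centralizer {t}) × (Cfsg.invertedBy X t) =>
      (⟨(p.1 : M) * p.2, X.mul_mem p.1.2.1 p.2.2.1⟩ : X)) ⟨?_, ?_⟩)).symm
  · rintro ⟨⟨c, hc⟩, ⟨i, hi⟩⟩ ⟨⟨d, hd⟩, ⟨j, hj⟩⟩ he
    have h := congrArg Subtype.val he
    simp only at h
    have := (existsUnique_decomp ht hodd hn (X.mul_mem hc.1 hi.1)).unique
      (y₁ := (c, i)) (y₂ := (d, j)) ⟨hc, hi, rfl⟩ ⟨hd, hj, h⟩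
    simp only [Prod.mk.injEq] at this
    obtain ⟨rfl, rfl⟩ := this
    rfl
  · rintro ⟨x, hx⟩
    obtain ⟨⟨c, i⟩, ⟨hc, hi, he⟩, -⟩ := existsUnique_decomp ht hodd hn hx
    exact ⟨(⟨c, hc⟩, ⟨i, hi⟩), Subtype.ext he.symm⟩

theorem conj_closure_inverted {x : M} (hx : x ∈ X) {k : M} (hk : k ∈ Cfsg.invertedBy X t) :
    x * k * x⁻¹ ∈ Subgroup.closure (Cfsg.invertedBy X t) := by
  obtain ⟨⟨c, i⟩, ⟨hc, hi, rfl⟩, -⟩ := existsUnique_decomp ht hodd hn hx
  have hct : t * c * t⁻¹ = c := by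
    rw [Subgroup.mem_centralizer_iff.1 hc.2 t rfl, mul_inv_cancel_right]
  have hconj : ∀ j ∈ Cfsg.invertedBy X t, c * j * c⁻¹ ∈ Cfsg.invertedBy X t := fun j hj =>
    ⟨X.mul_mem (X.mul_mem hc.1 hj.1) (X.inv_mem hc.1), by
      rw [show t * (c * j * c⁻¹) * t⁻¹ = (t * c * t⁻¹) * (t * j * t⁻¹) * (t * c * t⁻¹)⁻¹ by group,
        hct, hj.2]
      group⟩
  rw [show c * i * k * (c * i)⁻¹ = (c * i * c⁻¹) * (c * k * c⁻¹) * (c * i * c⁻¹)⁻¹ by group]
  exact Subgroup.mul_mem _ (Subgroup.mul_mem _ (Subgroup.subset_closure (hconj i hi))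
    (Subgroup.subset_closure (hconj k hk))) (Subgroup.inv_mem _ (Subgroup.subset_closure (hconj i hi)))

end CfsgLib.RankOne
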